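import Cfsg.Agent.Lib.FischerFour.Found
import Cfsg.Agent.Lib.FischerFour.Quot

/-!
A four group of the extraspecial group whose centraliser is a cover of `U₆(2)`.
-/

set_option autoImplicit false
set_option linter.style.haveILetI false

namespace CfsgLib.FischerFour

open CfsgLib.LargeFischer
open CfsgLib.HePres (K4)
open CfsgLib.Fi22USix (V6 el code vec hval nrm)

theorem exists_four {G : Type*} [Group G] [Finite G] (z : G) (Q : Subgroup (Subgroup.centralizer ({z} : Set G)))
    [Q.Normal] (hF : Cfsg.IsOfLargeFischerTypeAt z Q) :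
    ∃ E : Subgroup G, E ≤ (Q.map (Subgroup.centralizer ({z} : Set G)).subtype) ∧ Cfsg.IsElementaryAbelian 2 E ∧
      Nat.card E = 4 ∧ z ∉ E ∧ (∃ t ∈ E, orderOf t = 2 ∧ ¬ IsConj z t) ∧
      Cfsg.IsQuasisimple ↥(Subgroup.centralizer (E : Set G)) ∧
      ∃ (_ : (E.subgroupOf (Subgroup.centralizer (E : Set G))).Normal) (K : Type) (_ : Field K) (_ : Fintype K),
        Fintype.card K = 4 ∧ Nonempty (↥(Subgroup.centralizer (E : Set G)) ⧸
          E.subgroupOf (Subgroup.centralizer (E : Set G)) ≃* Cfsg.PSU 6 K 2) := by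
  classical
  obtain ⟨v, ρ, C, t, u, m, ht, hu, hvt, hvu, hmt, hmu, hmz, h1, h2, h3, h4⟩ := exists_mover Q hF
  have P : Pt C t u := ⟨ht, hu, hvt, hvu⟩
  have hM : Moved t u m := ⟨hmt, hmu, hmz, fun e he => by
    rcases P.mem_four.mp he with rfl | rfl | rfl | rfl
    · rwa [mul_one]
    · exact h2
    · exact h3
    · exact h4⟩
  have hcomm : ∀ a ∈ four t u, ∀ b ∈ four t u, a * b = b * a := fun a ha b hb =>
    (Subgroup.mem_centralizer_iff.mp (P.coe_cent ha) b hb).symm
  have ht1 : (t : G) ≠ 1 := fun e => v0_spec.2.2.1 (hvt ▸ (C.vzero t ht).mpr (Or.inl e))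
  have htE : (t : G) ∈ four t u := P.mem_four.mpr (Or.inr (Or.inl rfl))
  refine ⟨four t u, ?_, ⟨⟨⟨fun a b => Subtype.ext (hcomm a a.2 b b.2)⟩⟩, fun a ha => ?_⟩, ?_, P.z_notMem,
    ⟨(t : G), htE, orderOf_eq_prime (by rw [pow_two]; exact P.t_sq) ht1, (P.not_conj htE ht1).1⟩,
    P.quasisimple hM, NF_normal t u, K4, inferInstance, inferInstance, K4.card_eq, P.exists_iso hM⟩
  · intro x hx
    obtain ⟨e, he, rfl, -⟩ := P.four_Q hx
    exact ⟨e, he, rfl⟩
  · rw [pow_two]
    rcases P.mem_four.mp ha with rfl | rfl | rfl | rfl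
    · exact mul_one 1
    · exact P.t_sq
    · exact P.u_sq
    · calc (t : G) * u * ((t : G) * u) = (t : G) * (u * (t : G)) * u := by group
        _ = ((t : G) * t) * (u * u) := by rw [← P.tu]; group
        _ = 1 := by rw [P.t_sq, P.u_sq, mul_one]
  · have h1' : (t : G) ≠ u := fun e => w0_ne.1 (by rw [← hvt, Subtype.ext e]; exact hvu.symm)
    have h2' : (u : G) ≠ 1 := fun e => w0_ne.2.1 (by rw [w0, ← hvu]; exact (C.vzero u hu).mpr (Or.inl e))
    have h3' : (t : G) * u ≠ 1 := fun e => h1' (by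
      rw [← mul_one (t : G), ← P.u_sq, ← mul_assoc, e, one_mul])
    have hset : (four t u : Set G) = ↑({1, (t : G), (u : G), (t : G) * u} : Finset G) := by
      ext x; simp [P.mem_four]
    show Nat.card ↥((four t u : Set G)) = 4
    rw [hset, Nat.card_coe_set_eq, Set.ncard_coe_finset]
    have n1 : (t : G) * u ≠ t := fun e => h2' (mul_eq_left.mp e)
    have n2 : (t : G) * u ≠ u := fun e => ht1 (mul_eq_right.mp e)
    rw [Finset.card_insert_of_notMem (by simp [ht1.symm, h2'.symm, h3'.symm]),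
      Finset.card_insert_of_notMem (by simp [h1', n1.symm]),
      Finset.card_insert_of_notMem (by simp [n2.symm]), Finset.card_singleton]

end CfsgLib.FischerFour
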